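import Mathlib.RingTheory.PowerSeries.Trunc
import Mathlib.RingTheory.DiscreteValuationRing.Basic
import Mathlib.RingTheory.Filtration
import Mathlib.Algebra.Polynomial.RingDivision

/-!
# Power series expansions in a discrete valuation ring with a coefficient field
-/

universe u

open Polynomial

namespace Groth.Agent.CurveExpand

variable {k O : Type u} [Field k] [CommRing O] [IsDomain O] [Algebra k O]
  (ev : O →ₐ[k] k) (ϖ : O) (hev : ∀ a : O, ev a = 0 ↔ ϖ ∣ a)

include hev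

theorem exists_step (a : O) : ∃ b, a = algebraMap k O (ev a) + ϖ * b := by
  obtain ⟨b, hb⟩ := (hev (a - algebraMap k O (ev a))).1 (by simp)
  exact ⟨b, by rw [← hb]; ring⟩

/-- The shift. -/
noncomputable def shift (a : O) : O := (exists_step ev ϖ hev a).choose

theorem shift_spec (a : O) : a = algebraMap k O (ev a) + ϖ * shift ev ϖ hev a :=
  (exists_step ev ϖ hev a).choose_spec

/-- The expansion. -/
noncomputable def expand (a : O) : PowerSeries k := PowerSeries.mk fun n => ev ((shift ev ϖ hev)^[n] a)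

theorem sub_trunc_mem (a : O) (n : ℕ) :
    a - aeval ϖ (PowerSeries.trunc n (expand ev ϖ hev a)) = ϖ ^ n * (shift ev ϖ hev)^[n] a := by
  induction n with
  | zero => simp
  | succ n ih =>
    rw [PowerSeries.trunc_succ, map_add, ← sub_sub, ih, aeval_monomial, expand, PowerSeries.coeff_mk,
      Function.iterate_succ_apply']
    conv_lhs => arg 1; rw [shift_spec ev ϖ hev ((shift ev ϖ hev)^[n] a)]
    ring

theorem X_pow_dvd_iff (hϖ : ϖ ≠ 0) (p : k[X]) (n : ℕ) : X ^ n ∣ p ↔ ϖ ^ n ∣ aeval ϖ p := by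
  refine ⟨fun ⟨q, hq⟩ => ⟨aeval ϖ q, by rw [hq, map_mul, map_pow, aeval_X]⟩, ?_⟩
  induction n generalizing p with
  | zero => simp
  | succ n ih =>
    intro h
    obtain ⟨c, hc⟩ := h
    have h0 : ev (aeval ϖ p) = 0 := (hev _).2 ⟨ϖ ^ n * c, by rw [hc]; ring⟩
    rw [← aeval_algHom_apply, (hev ϖ).2 dvd_rfl, ← coeff_zero_eq_aeval_zero] at h0
    obtain ⟨q, rfl⟩ := Polynomial.X_dvd_iff.2 h0
    rw [map_mul, aeval_X, pow_succ', mul_assoc] at hc
    obtain ⟨r, hr⟩ := ih q ⟨c, mul_left_cancel₀ hϖ hc⟩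
    exact ⟨r, by rw [hr, pow_succ', mul_assoc]⟩

theorem eq_expand (hϖ : ϖ ≠ 0) (a : O) (f : PowerSeries k)
    (h : ∀ n, ϖ ^ n ∣ a - aeval ϖ (PowerSeries.trunc n f)) : f = expand ev ϖ hev a := by
  ext n
  have h1 := dvd_sub (Dvd.intro _ (sub_trunc_mem ev ϖ hev a (n + 1)).symm) (h (n + 1))
  rw [sub_sub_sub_cancel_left, ← map_sub, ← X_pow_dvd_iff ev ϖ hev hϖ] at h1
  have h2 := Polynomial.X_pow_dvd_iff.1 h1 n (Nat.lt_succ_self n)
  rw [Polynomial.coeff_sub, PowerSeries.coeff_trunc, PowerSeries.coeff_trunc, if_pos (Nat.lt_succ_self n),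
    if_pos (Nat.lt_succ_self n), sub_eq_zero] at h2
  exact h2

theorem expand_one (hϖ : ϖ ≠ 0) : expand ev ϖ hev 1 = 1 := by
  refine (eq_expand ev ϖ hev hϖ 1 1 fun n => ?_).symm
  rcases n with _ | n
  · simp
  · simp [PowerSeries.trunc_one]

theorem expand_add (hϖ : ϖ ≠ 0) (a b : O) : expand ev ϖ hev (a + b) = expand ev ϖ hev a + expand ev ϖ hev b := by
  refine (eq_expand ev ϖ hev hϖ _ _ fun n => ?_).symm
  rw [map_add, map_add, add_sub_add_comm, sub_trunc_mem, sub_trunc_mem]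
  exact dvd_add (dvd_mul_right _ _) (dvd_mul_right _ _)

theorem expand_mul (hϖ : ϖ ≠ 0) (a b : O) : expand ev ϖ hev (a * b) = expand ev ϖ hev a * expand ev ϖ hev b := by
  refine (eq_expand ev ϖ hev hϖ _ _ fun n => ?_).symm
  let p := PowerSeries.trunc n (expand ev ϖ hev a)
  let q := PowerSeries.trunc n (expand ev ϖ hev b)
  have h1 : (X : k[X]) ^ n ∣ p * q - PowerSeries.trunc n (expand ev ϖ hev a * expand ev ϖ hev b) := by
    rw [← PowerSeries.trunc_trunc_mul_trunc, Polynomial.X_pow_dvd_iff]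
    intro d hd
    rw [Polynomial.coeff_sub, PowerSeries.coeff_trunc, if_pos hd, ← Polynomial.coeff_coe, Polynomial.coe_mul,
      sub_self]
  have h2 := (X_pow_dvd_iff ev ϖ hev hϖ _ n).1 h1
  have h3 : a * b - aeval ϖ (PowerSeries.trunc n (expand ev ϖ hev a * expand ev ϖ hev b)) =
      (a - aeval ϖ p) * b + aeval ϖ p * (b - aeval ϖ q) +
        aeval ϖ (p * q - PowerSeries.trunc n (expand ev ϖ hev a * expand ev ϖ hev b)) := by
    rw [map_sub (aeval ϖ) (p * q), map_mul (aeval ϖ)]; ring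
  rw [h3]
  refine dvd_add (dvd_add (Dvd.dvd.mul_right ?_ _) (Dvd.dvd.mul_left ?_ _)) h2
  · rw [sub_trunc_mem]; exact dvd_mul_right _ _
  · rw [sub_trunc_mem]; exact dvd_mul_right _ _

/-- The expansion as a ring homomorphism, injective, compatible with evaluation. -/
theorem exists_hom (hϖ : ϖ ≠ 0) (hsep : ∀ a : O, (∀ n : ℕ, ϖ ^ n ∣ a) → a = 0) :
    ∃ φ : O →+* PowerSeries k, Function.Injective φ ∧ ∀ a, PowerSeries.constantCoeff (R := k) (φ a) = ev a := by
  refine ⟨RingHom.mk' ⟨⟨expand ev ϖ hev, expand_one ev ϖ hev hϖ⟩, expand_mul ev ϖ hev hϖ⟩ (expand_add ev ϖ hev hϖ),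
    (injective_iff_map_eq_zero _).2 fun a (ha : expand ev ϖ hev a = 0) => hsep a fun n => ?_, fun a => ?_⟩
  · exact ⟨_, by have := sub_trunc_mem ev ϖ hev a n; rwa [ha, map_zero, map_zero, sub_zero] at this⟩
  · show PowerSeries.constantCoeff (expand ev ϖ hev a) = _
    rw [← PowerSeries.coeff_zero_eq_constantCoeff_apply, expand, PowerSeries.coeff_mk]
    rfl

end Groth.Agent.CurveExpand
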